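import Mathlib
import Groth.Agent.Lib.Helper2.FibDim.FlatGen2

/-!
# Generization in the support of a flat module without loss of residual transcendence degree

Ring core of S1416. For a finite `B`-module `M` which is flat over `A`, a prime `q` in the support
lying over `p`, and a prime `p₀` contained in every prime of `A`, there is a prime `q'` in the
support lying over `p₀` whose residual transcendence degree is at least that of `q`.
-/

set_option linter.style.haveILetI false
set_option linter.unusedVariables false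
set_option linter.unusedSectionVars false
set_option autoImplicit false
set_option backward.isDefEq.respectTransparency.types false
set_option synthInstance.maxHeartbeats 400000
set_option maxHeartbeats 1600000

universe u

namespace Groth.Agent.Helper7.SuppDim

open Groth.Agent.Helper2.FibDim

section LemmaL

variable {A M : Type u} [CommRing A] [AddCommGroup M] [Module A M] [Module.Flat A M]

/-- A prime version of: over a local ring, elements of a flat module which are independent modulo
the maximal ideal are independent (Matsumura 7.10). -/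
theorem exists_mul_eq_zero_fin (p : Ideal A) [hp : p.IsPrime] :
    ∀ (k : ℕ) (v : Fin k → M),
      (∀ (b : Fin k → A) (c : A), c ∉ p →
        c • (∑ i, b i • v i) ∈ (p • (⊤ : Submodule A M)) → ∀ i, b i ∈ p) →
      ∀ f : Fin k → A, ∑ i, f i • v i = 0 → ∀ i, ∃ c : A, c ∉ p ∧ c * f i = 0 := by
  intro k
  induction k with
  | zero =>
    intro v _ f _ i
    exact i.elim0
  | succ k ih =>
    intro v htest f hf
    obtain ⟨l, a, y, hvy, hfa⟩ := Module.Flat.isTrivialRelation_of_sum_smul_eq_zero hf
    have h1p : (1 : A) ∉ p := fun h => hp.ne_top ((Ideal.eq_top_iff_one p).mpr h)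
    have hex : ∃ j, a 0 j ∉ p := by
      by_contra hall
      push Not at hall
      have h0 : v 0 ∈ (p • (⊤ : Submodule A M)) := by
        rw [hvy 0]
        exact Submodule.sum_mem _ fun j _ => Submodule.smul_mem_smul (hall j) Submodule.mem_top
      have hsum : ∑ i, (Pi.single (0 : Fin (k + 1)) (1 : A) : Fin (k + 1) → A) i • v i = v 0 := by
        rw [Finset.sum_eq_single (0 : Fin (k + 1))]
        · rw [Pi.single_eq_same, one_smul]
        · intro i _ hi
          rw [Pi.single_eq_of_ne hi, zero_smul]
        · intro h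
          exact absurd (Finset.mem_univ _) h
      have h1 := htest (Pi.single 0 1) 1 h1p (by rw [one_smul, hsum]; exact h0) 0
      rw [Pi.single_eq_same] at h1
      exact h1p h1
    obtain ⟨j, hj⟩ := hex
    have h2 := hfa j
    rw [Fin.sum_univ_succ] at h2
    have hf' := hf
    rw [Fin.sum_univ_succ] at hf'
    have h4 : ∑ i' : Fin k, f i'.succ * a i'.succ j = -(f 0 * a 0 j) :=
      eq_neg_of_add_eq_zero_right h2
    have h7 : ∑ i' : Fin k, f i'.succ • v i'.succ = -(f 0 • v 0) :=
      eq_neg_of_add_eq_zero_right hf'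
    have key := ih (fun i => a 0 j • v i.succ - a i.succ j • v 0) ?_ (fun i => f i.succ) ?_
    · choose c hc hcf using key
      intro i
      refine Fin.cases ?_ (fun i' => ⟨c i', hc i', hcf i'⟩) i
      refine ⟨(∏ i', c i') * a 0 j, ?_, ?_⟩
      · intro hmem
        rcases hp.mem_or_mem hmem with h | h
        · rw [Ideal.IsPrime.prod_mem_iff] at h
          obtain ⟨i', _, hi'⟩ := h
          exact hc i' hi'
        · exact hj h
      · have h3 : (∏ i', c i') * ∑ i' : Fin k, f i'.succ * a i'.succ j = 0 := by
          rw [Finset.mul_sum]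
          refine Finset.sum_eq_zero fun i' _ => ?_
          obtain ⟨r, hr⟩ := Finset.dvd_prod_of_mem c (Finset.mem_univ i')
          rw [hr]
          calc c i' * r * (f i'.succ * a i'.succ j)
              = r * a i'.succ j * (c i' * f i'.succ) := by ring
            _ = 0 := by rw [hcf i', mul_zero]
        calc (∏ i', c i') * a 0 j * f 0 = -((∏ i', c i') * -(f 0 * a 0 j)) := by ring
          _ = 0 := by rw [← h4, h3, neg_zero]
    · intro b c hc hmem i
      have h5 : ∑ i' : Fin k, b i' • (a 0 j • v i'.succ - a i'.succ j • v 0) =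
          ∑ i'' : Fin (k + 1),
            (Fin.cons (-(∑ i' : Fin k, b i' * a i'.succ j)) (fun i' => a 0 j * b i') :
              Fin (k + 1) → A) i'' • v i'' := by
        rw [Fin.sum_univ_succ]
        simp only [Fin.cons_zero, Fin.cons_succ]
        rw [neg_smul, Finset.sum_smul]
        simp only [smul_sub, smul_smul, Finset.sum_sub_distrib]
        rw [neg_add_eq_sub]
        congr 1
        refine Finset.sum_congr rfl fun i' _ => ?_
        rw [mul_comm]
      rw [h5] at hmem
      have h6 := htest _ c hc hmem i.succ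
      rw [Fin.cons_succ] at h6
      rcases hp.mem_or_mem h6 with h | h
      · exact absurd h hj
      · exact h
    · have h8 : ∑ i' : Fin k, f i'.succ • (a 0 j • v i'.succ - a i'.succ j • v 0) =
          a 0 j • ∑ i' : Fin k, f i'.succ • v i'.succ -
            (∑ i' : Fin k, f i'.succ * a i'.succ j) • v 0 := by
        rw [Finset.smul_sum, Finset.sum_smul, ← Finset.sum_sub_distrib]
        refine Finset.sum_congr rfl fun i' _ => ?_
        rw [smul_sub, smul_smul, smul_smul, smul_smul, mul_comm]
      rw [h8, h7, h4, smul_neg, neg_smul, smul_smul, sub_neg_eq_add, mul_comm, neg_add_cancel]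

/-- Fintype-indexed version. -/
theorem exists_mul_eq_zero_fintype (p : Ideal A) [hp : p.IsPrime] {ι : Type*} [Fintype ι]
    (v : ι → M)
    (htest : ∀ (b : ι → A) (c : A), c ∉ p →
        c • (∑ i, b i • v i) ∈ (p • (⊤ : Submodule A M)) → ∀ i, b i ∈ p)
    (f : ι → A) (hf : ∑ i, f i • v i = 0) (i : ι) : ∃ c : A, c ∉ p ∧ c * f i = 0 := by
  classical
  obtain ⟨e⟩ : Nonempty (ι ≃ Fin (Fintype.card ι)) := ⟨Fintype.equivFin ι⟩
  have key := exists_mul_eq_zero_fin (M := M) p (Fintype.card ι) (fun n => v (e.symm n)) ?_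
    (fun n => f (e.symm n)) ?_ (e i)
  · simpa using key
  · intro b c hc hmem n
    have h1 : ∑ n, b n • v (e.symm n) = ∑ i, (fun i => b (e i)) i • v i := by
      rw [← Equiv.sum_comp e.symm]
      simp
    rw [h1] at hmem
    have := htest (fun i => b (e i)) c hc hmem (e.symm n)
    simpa using this
  · rw [Equiv.sum_comp e.symm (fun i => f i • v i)]
    exact hf

end LemmaL

section Main

variable {A B M : Type u} [CommRing A] [CommRing B] [Algebra A B]
  [AddCommGroup M] [Module A M] [Module B M] [IsScalarTower A B M] [Module.Finite B M]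
  [Module.Flat A M]

theorem smul_top_le_of_liesOver (p : Ideal A) (q : Ideal B) [q.LiesOver p] (x : M)
    (hx : x ∈ (p • (⊤ : Submodule A M))) : x ∈ (q • (⊤ : Submodule B M)) := by
  refine Submodule.smul_induction_on hx (fun r hr n _ => ?_) (fun x y hx hy => add_mem hx hy)
  rw [← algebraMap_smul B r n]
  refine Submodule.smul_mem_smul ?_ Submodule.mem_top
  have h1 : p = q.under A := Ideal.LiesOver.over
  rw [h1] at hr
  exact hr

theorem exists_prime_trdeg_ge
    (p : Ideal A) [hpp : p.IsPrime] (q : Ideal B) [hqp : q.IsPrime] [hlo : q.LiesOver p]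
    (hq : (⟨q, hqp⟩ : PrimeSpectrum B) ∈ Module.support B M)
    (p₀ : Ideal A) [hp₀p : p₀.IsPrime] (hp₀ : ∀ P : Ideal A, P.IsPrime → p₀ ≤ P)
    (d : ℕ) (hd : Algebra.trdeg (A ⧸ p) (B ⧸ q) = (d : Cardinal.{u})) :
    ∃ (q' : Ideal B) (hq' : q'.IsPrime), (⟨q', hq'⟩ : PrimeSpectrum B) ∈ Module.support B M ∧
      q'.under A = p₀ ∧
      ∀ (P : Ideal A) (Q : Ideal B) [P.IsPrime] [Q.IsPrime] [Q.LiesOver P], Q = q' → P = p₀ →
        (d : Cardinal.{u}) ≤ Algebra.trdeg (A ⧸ P) (B ⧸ Q) := by
  classical
  -- a transcendence basis of the residue extension, lifted to `B`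
  obtain ⟨s, hs⟩ := exists_isTranscendenceBasis (A ⧸ p) (B ⧸ q)
  have hcard : Cardinal.mk s = (d : Cardinal.{u}) := by
    rw [← hd]
    exact hs.cardinalMk_eq_trdeg
  obtain ⟨e⟩ := Cardinal.mk_eq_nat_iff.mp hcard
  have hind : AlgebraicIndependent (A ⧸ p) (fun i : Fin d => ((e.symm i : s) : B ⧸ q)) :=
    hs.1.comp e.symm e.symm.injective
  choose t ht using fun i : Fin d => Ideal.Quotient.mk_surjective ((e.symm i : s) : B ⧸ q)
  have hind' : AlgebraicIndependent (A ⧸ p) (fun i => Ideal.Quotient.mk q (t i)) := by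
    have : (fun i => Ideal.Quotient.mk q (t i)) = fun i : Fin d => ((e.symm i : s) : B ⧸ q) :=
      funext ht
    rw [this]
    exact hind
  obtain ⟨φ, hφ⟩ : ∃ φ : MvPolynomial (Fin d) A →ₐ[A] B, φ = MvPolynomial.aeval t := ⟨_, rfl⟩
  have hcomap : q.comap φ = p.map (MvPolynomial.C : A →+* MvPolynomial (Fin d) A) := by
    rw [hφ]
    exact (algebraicIndependent_mk_iff t p q).mp hind'
  -- an element of `M` which is not killed at `q` modulo `q`
  have hq2 : (⟨q, hqp⟩ : PrimeSpectrum B) ∈
      Module.support B (M ⧸ (q • ⊤ : Submodule B M)) := by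
    rw [Module.support_quotient]
    exact ⟨hq, fun x hx => hx⟩
  obtain ⟨mbar, hmbar⟩ := Module.mem_support_iff'.mp hq2
  obtain ⟨m₀, rfl⟩ := Submodule.mkQ_surjective _ mbar
  have hm₀ : ∀ b : B, b • m₀ ∈ (q • ⊤ : Submodule B M) → b ∈ q := by
    intro b hb
    by_contra hbq
    refine hmbar b hbq ?_
    rw [← map_smul]
    exact (Submodule.Quotient.mk_eq_zero _).mpr hb
  have hcq : ∀ c : A, c ∉ p → algebraMap A B c ∉ q := by
    intro c hc hcq
    apply hc
    have h1 : p = q.under A := Ideal.LiesOver.over
    rw [h1]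
    exact hcq
  -- the annihilator of `m₀` contracts into `p₀[T]`
  have hker : ∀ P : MvPolynomial (Fin d) A, φ P • m₀ = 0 → ∀ α, P.coeff α ∈ p₀ := by
    intro P hP α
    by_cases hα : α ∈ P.support
    swap
    · rw [MvPolynomial.notMem_support_iff.mp hα]
      exact zero_mem _
    have hsum : ∑ x : P.support, P.coeff x.1 •
        (φ (MvPolynomial.monomial x.1 (1 : A)) • m₀) = 0 := by
      rw [Finset.sum_coe_sort P.support
        (fun β => P.coeff β • (φ (MvPolynomial.monomial β (1 : A)) • m₀))]
      have h1 : ∀ β ∈ P.support, P.coeff β • (φ (MvPolynomial.monomial β (1 : A)) • m₀) =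
          φ (MvPolynomial.monomial β (P.coeff β)) • m₀ := by
        intro β _
        rw [← smul_assoc, ← map_smul, MvPolynomial.smul_monomial, smul_eq_mul, mul_one]
      rw [Finset.sum_congr rfl h1, ← Finset.sum_smul, ← map_sum,
        MvPolynomial.support_sum_monomial_coeff]
      exact hP
    have htest : ∀ (b : P.support → A) (c : A), c ∉ p →
        c • (∑ y : P.support, b y • (φ (MvPolynomial.monomial y.1 (1 : A)) • m₀)) ∈
          (p • (⊤ : Submodule A M)) → ∀ y, b y ∈ p := by
      intro b c hc hmem x
      obtain ⟨Q, hQ⟩ : ∃ Q : MvPolynomial (Fin d) A,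
          Q = ∑ y : P.support, MvPolynomial.monomial y.1 (b y) := ⟨_, rfl⟩
      have h1 : ∑ y : P.support, b y • (φ (MvPolynomial.monomial y.1 (1 : A)) • m₀) =
          φ Q • m₀ := by
        rw [hQ, map_sum, Finset.sum_smul]
        refine Finset.sum_congr rfl fun y _ => ?_
        rw [← smul_assoc, ← map_smul, MvPolynomial.smul_monomial, smul_eq_mul, mul_one]
      rw [h1] at hmem
      have h2 : (algebraMap A B c * φ Q) • m₀ ∈ (q • ⊤ : Submodule B M) := by
        rw [mul_smul, algebraMap_smul]
        exact smul_top_le_of_liesOver p q _ hmem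
      have h3 := hm₀ _ h2
      rcases hqp.mem_or_mem h3 with h | h
      · exact absurd h (hcq c hc)
      · have h4 : Q ∈ q.comap φ := h
        rw [hcomap, MvPolynomial.mem_map_C_iff] at h4
        have h5 := h4 x.1
        rw [hQ, MvPolynomial.coeff_sum] at h5
        rw [Finset.sum_eq_single x] at h5
        · rwa [MvPolynomial.coeff_monomial, if_pos rfl] at h5
        · intro y _ hy
          rw [MvPolynomial.coeff_monomial, if_neg]
          intro hyx
          exact hy (Subtype.ext hyx)
        · intro h
          exact absurd (Finset.mem_univ _) h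
    obtain ⟨c, hc, hc0⟩ := exists_mul_eq_zero_fintype (M := M) p
      (fun x : P.support => φ (MvPolynomial.monomial x.1 (1 : A)) • m₀) htest
      (fun x : P.support => P.coeff x.1) hsum ⟨α, hα⟩
    have h1 : c * P.coeff α ∈ p₀ := by
      have : c * P.coeff α = 0 := hc0
      rw [this]
      exact zero_mem _
    rcases hp₀p.mem_or_mem h1 with h | h
    · exact absurd (hp₀ p hpp h) hc
    · exact h
  -- the prime
  obtain ⟨I, hI⟩ : ∃ I : Ideal B, I = (Submodule.span B {m₀}).annihilator := ⟨_, rfl⟩
  have hkerI : I.comap φ.toRingHom ≤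
      p₀.map (MvPolynomial.C : A →+* MvPolynomial (Fin d) A) := by
    intro P hP
    rw [MvPolynomial.mem_map_C_iff]
    refine hker P ?_
    have h1 : φ P ∈ I := hP
    rw [hI, Submodule.mem_annihilator_span_singleton] at h1
    exact h1
  haveI hP₀prime : (p₀.map (MvPolynomial.C : A →+* MvPolynomial (Fin d) A)).IsPrime :=
    isPrime_map_C p₀
  have hmin : p₀.map (MvPolynomial.C : A →+* MvPolynomial (Fin d) A) ∈
      (I.comap φ.toRingHom).minimalPrimes := by
    refine ⟨⟨hP₀prime, hkerI⟩, fun Q hQ _ => ?_⟩
    rw [Ideal.map_le_iff_le_comap]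
    haveI := hQ.1
    exact hp₀ _ (Ideal.comap_isPrime _ _)
  obtain ⟨q', hq'prime, hIq', hq'comap⟩ :=
    Ideal.exists_comap_eq_of_mem_minimalPrimes φ.toRingHom _ hmin
  have hq'comap' : q'.comap (MvPolynomial.aeval t : MvPolynomial (Fin d) A →ₐ[A] B) =
      p₀.map (MvPolynomial.C : A →+* MvPolynomial (Fin d) A) := by
    rw [← hφ]
    exact hq'comap
  have hunder : q'.under A = p₀ := by
    ext a
    rw [Ideal.under_def, Ideal.mem_comap]
    have h1 : algebraMap A B a = φ (MvPolynomial.C a) := by
      rw [← MvPolynomial.algebraMap_eq, AlgHom.commutes]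
    rw [h1]
    have h2 : φ (MvPolynomial.C a) ∈ q' ↔ (MvPolynomial.C a : MvPolynomial (Fin d) A) ∈
        q'.comap φ.toRingHom := Iff.rfl
    rw [h2, hq'comap, MvPolynomial.mem_map_C_iff]
    constructor
    · intro h
      have := h 0
      rwa [MvPolynomial.coeff_C, if_pos rfl] at this
    · intro ha m
      rw [MvPolynomial.coeff_C]
      split_ifs
      · exact ha
      · exact zero_mem _
  refine ⟨q', hq'prime, ?_, hunder, ?_⟩
  · rw [Module.mem_support_iff_exists_annihilator]
    exact ⟨m₀, by rw [← hI]; exact hIq'⟩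
  · intro P Q _ _ _ hQ hP
    subst hQ
    subst hP
    have hind'' : AlgebraicIndependent (A ⧸ P) (fun i => Ideal.Quotient.mk Q (t i)) :=
      (algebraicIndependent_mk_iff t P Q).mpr hq'comap'
    haveI : Nontrivial (A ⧸ P) :=
      Ideal.Quotient.nontrivial_iff.mpr (Ideal.IsPrime.ne_top inferInstance)
    have := hind''.lift_cardinalMk_le_trdeg
    simpa using this

end Main

end Groth.Agent.Helper7.SuppDim
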