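import Mathlib
import Groth.Prelude.Def_Coh
import Groth.Prelude.Def_CohB1
import Groth.Prelude.Def_FlatMod2
import Groth.Agent.Lib.Helper7.SuppDim.Ring
import Groth.Agent.Lib.Helper7.CohStalk.Support
import Groth.Agent.Lib.Helper1.AffFin
import Groth.Agent.Lib.Helper1.FtSupp
import Groth.Agent.Lib.Lead.FO1
import Groth.Agent.Lib.Helper4.Equi10
import Groth.Agent.Lib.Helper4.GenMap2

/-!
# The support of a flat module of finite type has fibre dimension bounded by the generic one
(scheme part of S1416)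
-/

set_option linter.style.haveILetI false
set_option linter.unusedVariables false
set_option linter.unusedSectionVars false
set_option autoImplicit false
set_option backward.isDefEq.respectTransparency.types false
set_option synthInstance.maxHeartbeats 400000
set_option maxHeartbeats 1600000

universe u

open CategoryTheory CategoryTheory.Limits AlgebraicGeometry TopologicalSpace
open Groth.Agent.Lib.Helper4.FibDim1 Groth.Agent.Lib.Helper4.DimIneq2
open Groth.Agent.Lib.Helper4.Equi10

namespace Groth.Agent.Helper7.SuppDim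

section Top

variable {T : Type*} [TopologicalSpace T] [QuasiSober T] [T0Space T]

attribute [local instance] specializationOrder in
theorem topologicalKrullDim_le_of_chains (B : WithBot ℕ∞)
    (h : ∀ (e : ℕ) (c : Fin (e + 1) → T),
      (∀ i : Fin e, c i.succ ⤳ c i.castSucc ∧ ¬ c i.castSucc ⤳ c i.succ) →
        (e : WithBot ℕ∞) ≤ B) :
    topologicalKrullDim T ≤ B := by
  rw [Groth.Agent.Helper4.GM.topologicalKrullDim_eq_krullDim_specialization]
  unfold Order.krullDim
  refine iSup_le fun p => ?_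
  exact h p.length (fun i => p i) (fun i => lt_iff_le_not_ge.mp (p.step i))

attribute [local instance] specializationOrder in
theorem le_topologicalKrullDim_of_chain (e : ℕ) (c : Fin (e + 1) → T)
    (hc : ∀ i : Fin e, c i.succ ⤳ c i.castSucc ∧ ¬ c i.castSucc ⤳ c i.succ) :
    (e : WithBot ℕ∞) ≤ topologicalKrullDim T := by
  rw [Groth.Agent.Helper4.GM.topologicalKrullDim_eq_krullDim_specialization]
  have hmono : StrictMono c := by
    apply Fin.strictMono_iff_lt_succ.mpr
    intro i
    exact lt_iff_le_not_ge.mpr (hc i)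
  exact Order.LTSeries.length_le_krullDim (LTSeries.mk e c hmono)

end Top

section Sch

variable {X S : Scheme.{u}} (f : X ⟶ S)

theorem finite_sections (F : X.Modules) (hF : Coh.IsCoh F) {U : X.Opens} (hU : IsAffineOpen U) :
    Module.Finite Γ(X, U) Γ(F, U) := by
  have h1 : Module.Finite Γ(X, U) Γ(F.restrict hU.fromSpec, ⊤) :=
    Groth.Agent.Helper1.AffFin.finite_restrict F hF.1 hF.2 hU.fromSpec
  have h : hU.fromSpec ''ᵁ ⊤ = U := by
    rw [Scheme.Hom.image_top_eq_opensRange, hU.opensRange_fromSpec]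
  exact Groth.Agent.Helper7.FinType.finite_sections_aux hU.fromSpec F U h h1

theorem exists_generic_point [LocallyOfFiniteType f] [IrreducibleSpace ↑S]
    (F : X.Modules) (hF : Coh.IsCoh F) (hfl : FlatMod.IsFlatOver f F) (z : X)
    (hz : z ∈ CohB1.support F) :
    ∃ z' : X, f z' = genericPoint S ∧ z' ∈ CohB1.support F ∧ tr f z ≤ tr f z' := by
  haveI hq : F.IsQuasicoherent := hF.1
  obtain ⟨V, hV, hsV, -⟩ := exists_isAffineOpen_mem_and_subset (U := (⊤ : S.Opens)) (x := f z)
    trivial
  obtain ⟨U, hU, hzU, hUV⟩ := exists_isAffineOpen_mem_and_subset (U := f ⁻¹ᵁ V) (x := z) hsV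
  letI alg : Algebra Γ(S, V) Γ(X, U) := (f.appLE V U hUV).hom.toAlgebra
  letI m1 : Module Γ(S, V) Γ(F, U) := Groth.Agent.Lead.FO.sectionsOver f F hUV
  haveI t1 : IsScalarTower Γ(S, V) Γ(X, U) Γ(F, U) :=
    IsScalarTower.of_algebraMap_smul fun r m => rfl
  haveI hflat : Module.Flat Γ(S, V) Γ(F, U) :=
    Groth.Agent.Lead.FO.flat_sectionsOver_of_isFlatOverAt f F hU hV hUV (fun w => hfl w.1)
  haveI hfin : Module.Finite Γ(X, U) Γ(F, U) := finite_sections F hF hU
  haveI hlo := liesOver_chart f hV hU hUV z hzU rfl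
  have hsupp := (Groth.Agent.Helper7.FinType.primeIdealOf_mem_support_iff F hF.1 hU z hzU).mpr hz
  have hηV : genericPoint S ∈ V := genericPoint_mem_of_mem V (f z) (hUV hzU)
  have htr := tr_chart f hV hU hUV z hzU rfl
  obtain ⟨q', hq'prime, hq'supp, hq'under, hq'tr⟩ :=
    exists_prime_trdeg_ge (M := Γ(F, U)) (hV.primeIdealOf ⟨f z, hUV hzU⟩).asIdeal
      (hU.primeIdealOf ⟨z, hzU⟩).asIdeal hsupp
      (hV.primeIdealOf ⟨genericPoint S, hηV⟩).asIdeal
      (fun P hP => primeIdealOf_genericPoint_le hV hηV ⟨P, hP⟩) (tr f z) htr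
  obtain ⟨z', hz'⟩ : ∃ z' : X, z' = hU.fromSpec ⟨q', hq'prime⟩ := ⟨_, rfl⟩
  have hz'U : z' ∈ U := by
    rw [hz']
    exact Groth.Agent.Lead.SD.fromSpec_mem hU _
  have hprime : hU.primeIdealOf ⟨z', hz'U⟩ = ⟨q', hq'prime⟩ := by
    subst hz'
    exact Groth.Agent.Lead.SD.primeIdealOf_fromSpec hU _
  haveI hlo' := liesOver_chart f hV hU hUV z' hz'U rfl
  have hQ : (hU.primeIdealOf ⟨z', hz'U⟩).asIdeal = q' := congrArg PrimeSpectrum.asIdeal hprime
  have hP : (hV.primeIdealOf ⟨f z', hUV hz'U⟩).asIdeal =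
      (hV.primeIdealOf ⟨genericPoint S, hηV⟩).asIdeal := by
    have h1 := hlo'.over
    rw [h1, hQ, hq'under]
  have hfz' : f z' = genericPoint S := by
    have h1 : hV.primeIdealOf ⟨f z', hUV hz'U⟩ = hV.primeIdealOf ⟨genericPoint S, hηV⟩ :=
      PrimeSpectrum.ext hP
    have h2 := congrArg hV.fromSpec h1
    rw [hV.fromSpec_primeIdealOf, hV.fromSpec_primeIdealOf] at h2
    exact h2
  refine ⟨z', hfz', ?_, ?_⟩
  · refine (Groth.Agent.Helper7.FinType.primeIdealOf_mem_support_iff F hF.1 hU z' hz'U).mp ?_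
    rw [hprime]
    exact hq'supp
  · have htr' := tr_chart f hV hU hUV z' hz'U rfl
    have h3 := hq'tr _ _ hQ hP
    rw [htr'] at h3
    exact_mod_cast h3

theorem main [LocallyOfFiniteType f] [IrreducibleSpace ↑S]
    (F : X.Modules) (hF : Coh.IsCoh F) (hfl : FlatMod.IsFlatOver f F) (r : WithBot ℕ∞)
    (h : topologicalKrullDim ↑(f ⁻¹' {genericPoint ↑S} ∩ CohB1.support F) ≤ r) (s : S) :
    topologicalKrullDim ↑(f ⁻¹' {s} ∩ CohB1.support F) ≤ r := by
  have hZ : IsClosed (CohB1.support F) := Groth.Agent.Helper1.FtGen.isClosed_support F hF.2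
  haveI hs1 : ∀ y : S, QuasiSober ↥(f ⁻¹' {y}) := fun y =>
    (f.fiberHomeo y).symm.isClosedEmbedding.quasiSober
  haveI : QuasiSober ↥(f ⁻¹' {s} ∩ CohB1.support F) :=
    QuasiSober.inter_of_isClosed_of_quasiSober_left _ hZ
  haveI : QuasiSober ↥(f ⁻¹' {genericPoint ↑S} ∩ CohB1.support F) :=
    QuasiSober.inter_of_isClosed_of_quasiSober_left _ hZ
  refine le_trans ?_ h
  apply topologicalKrullDim_le_of_chains
  intro e c hc
  have hfc : ∀ i, f (c i).1 = s := fun i => (c i).2.1
  have key : ∀ i : Fin (e + 1), (i : ℕ) ≤ tr f (c i).1 := by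
    intro i
    induction i using Fin.induction with
    | zero => simp
    | succ i ih =>
      obtain ⟨h1, h2⟩ := hc i
      have hsp : (c i.succ).1 ⤳ (c i.castSucc).1 := (subtype_specializes_iff _ _).mp h1
      have hne : (c i.succ).1 ≠ (c i.castSucc).1 := by
        intro heq
        apply h2
        have : c i.succ = c i.castSucc := Subtype.ext heq
        rw [this]
      have h3 := tr_lt_of_specializes f _ _ hsp hne ((hfc _).trans (hfc _).symm)
      rw [Fin.val_succ]
      have : (i.castSucc : ℕ) = (i : ℕ) := rfl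
      omega
  have hlast := key (Fin.last e)
  rw [Fin.val_last] at hlast
  obtain ⟨z', hz'η, hz'Z, hle⟩ := exists_generic_point f F hF hfl (c (Fin.last e)).1
    (c (Fin.last e)).2.2
  have hheight := height_fib_nn f (genericPoint S) z' hz'η
  obtain ⟨p, hp1, hp2⟩ := Order.exists_series_of_le_height
    (⟨z', hz'η⟩ : {w : X // f w = genericPoint S}) (n := e) (by
      rw [hheight]
      exact_mod_cast (hlast.trans hle))
  have hmem : ∀ i, (p i).1 ∈ CohB1.support F := by
    intro i
    have h1 : p i ≤ p.last := p.monotone (Fin.le_last i)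
    rw [hp1] at h1
    have h2 : z' ⤳ (p i).1 := h1
    exact h2.mem_closed hZ hz'Z
  have hfin := le_topologicalKrullDim_of_chain
    (T := ↥(f ⁻¹' {genericPoint ↑S} ∩ CohB1.support F)) p.length
    (fun i => ⟨(p i).1, ⟨(p i).2, hmem i⟩⟩) (by
      intro i
      have hlt : p i.castSucc < p i.succ := p.step i
      rw [lt_iff_le_not_ge] at hlt
      refine ⟨(subtype_specializes_iff _ _).mpr hlt.1, fun hcon => hlt.2 ?_⟩
      have h5 := (subtype_specializes_iff _ _).mp hcon
      exact h5)
  rw [hp2] at hfin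
  exact hfin

end Sch

end Groth.Agent.Helper7.SuppDim
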